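import Mathlib
import Cfsg.Agent.Lib.Degree.CodPrime

/-!
# Constructing Frobenius complements from fixed point free actions
-/

set_option autoImplicit false

namespace Cfsg.Agent.Lib.Frobenius

open Cfsg

universe u

/-- A nontrivial group acting fixed point freely on a nontrivial finite abelian group is a Frobenius
complement; the index of the complement is the order of the group acted on. -/
theorem exists_frobenius_of_fpf_index {V H : Type u} [AddCommGroup V] [Finite V] [Nontrivial V] [Group H]
    [Finite H] [Nontrivial H] [DistribMulAction H V]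
    (hfpf : ∀ h : H, h ≠ 1 → ∀ v : V, h • v = v → v = 0) :
    ∃ (L : Type u) (_ : Group L) (_ : Finite L) (K : Subgroup L),
      IsFrobeniusComplement K ∧ Nonempty (K ≃* H) ∧ K.index = Nat.card V := by
  let φ : H →* MulAut (Multiplicative V) :=
    { toFun := fun h => (DistribMulAction.toAddEquiv V h).toMultiplicative
      map_one' := by
        ext n
        exact congrArg Multiplicative.ofAdd (one_smul H (Multiplicative.toAdd n))
      map_mul' := fun a b => by
        ext n
        exact congrArg Multiplicative.ofAdd (mul_smul a b (Multiplicative.toAdd n)) }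
  let L := SemidirectProduct (Multiplicative V) H φ
  have hfin : Finite L := Finite.of_equiv _ SemidirectProduct.equivProd.symm
  let P : Subgroup L := (SemidirectProduct.inl : Multiplicative V →* L).range
  let K : Subgroup L := (SemidirectProduct.inr : H →* L).range
  have hP : P.Normal := by
    have : P = (SemidirectProduct.rightHom : L →* H).ker := SemidirectProduct.range_inl_eq_ker_rightHom
    rw [this]
    infer_instance
  have hdisj : Disjoint P K := by
    rw [Subgroup.disjoint_def]
    rintro _ ⟨n, rfl⟩ ⟨g, hg⟩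
    have h1 : g = 1 := by
      have := congrArg SemidirectProduct.right hg
      simpa using this
    rw [← hg, h1, map_one]
  have hc : Subgroup.IsComplement' P K := by
    apply Subgroup.isComplement'_of_disjoint_and_mul_eq_univ hdisj
    ext x
    simp only [Set.mem_mul, Set.mem_univ, iff_true]
    exact ⟨_, ⟨x.left, rfl⟩, _, ⟨x.right, rfl⟩, SemidirectProduct.inl_left_mul_inr_right x⟩
  have hfix : ∀ h ∈ K, h ≠ 1 → ∀ u ∈ P, h * u * h⁻¹ = u → u = 1 := by
    rintro _ ⟨g, rfl⟩ hg _ ⟨n, rfl⟩ h
    have hg1 : g ≠ 1 := by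
      rintro rfl
      exact hg (map_one _)
    have h1 : (SemidirectProduct.inr g : L) * SemidirectProduct.inl n * (SemidirectProduct.inr g)⁻¹ =
        SemidirectProduct.inl (φ g n) := by
      rw [SemidirectProduct.inl_aut, map_inv]
    rw [h1] at h
    have h2 : φ g n = n := SemidirectProduct.inl_injective h
    have h3 : g • (Multiplicative.toAdd n) = Multiplicative.toAdd n := congrArg Multiplicative.toAdd h2
    have h4 := hfpf g hg1 _ h3
    have h5 : n = 1 := Multiplicative.toAdd.injective h4
    rw [h5, map_one]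
  obtain ⟨h1, -⟩ := Cfsg.Agent.Lib.Degree.frobenius_of_fixedPointFree P K hc hfix
  have hKH : K ≃* H := (MonoidHom.ofInjective SemidirectProduct.inr_injective).symm
  refine ⟨L, inferInstance, hfin, K, ⟨?_, ?_, h1⟩, ⟨hKH⟩, ?_⟩
  · intro h
    obtain ⟨g, hg⟩ := exists_ne (1 : H)
    have h2 : (SemidirectProduct.inr g : L) ∈ K := ⟨g, rfl⟩
    rw [h, Subgroup.mem_bot] at h2
    exact hg (SemidirectProduct.inr_injective (h2.trans (map_one _).symm))
  · intro h
    obtain ⟨v, hv⟩ := exists_ne (0 : V)
    have h2 : (SemidirectProduct.inl (Multiplicative.ofAdd v) : L) ∈ P := ⟨_, rfl⟩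
    have h3 : (SemidirectProduct.inl (Multiplicative.ofAdd v) : L) ∈ K := by rw [h]; trivial
    have h4 := Subgroup.disjoint_def.mp hdisj h2 h3
    have h5 : Multiplicative.ofAdd v = 1 :=
      SemidirectProduct.inl_injective (h4.trans (map_one _).symm)
    exact hv (Multiplicative.ofAdd.injective h5)
  · have h2 : Nat.card L = Nat.card V * Nat.card H := by
      rw [Nat.card_congr (SemidirectProduct.equivProd (N := Multiplicative V) (G := H) (φ := φ)),
        Nat.card_prod]
      rfl
    have h3 := K.card_mul_index
    rw [h2, Nat.card_congr hKH.toEquiv, mul_comm (Nat.card V)] at h3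
    exact Nat.eq_of_mul_eq_mul_left Nat.card_pos h3

/-- A nontrivial group acting fixed point freely on a nontrivial finite abelian group is a Frobenius
complement. -/
theorem exists_frobenius_of_fpf {V H : Type u} [AddCommGroup V] [Finite V] [Nontrivial V] [Group H]
    [Finite H] [Nontrivial H] [DistribMulAction H V]
    (hfpf : ∀ h : H, h ≠ 1 → ∀ v : V, h • v = v → v = 0) :
    ∃ (L : Type u) (_ : Group L) (_ : Finite L) (K : Subgroup L),
      IsFrobeniusComplement K ∧ Nonempty (K ≃* H) := by
  obtain ⟨L, i1, i2, K, h1, h2, -⟩ := exists_frobenius_of_fpf_index hfpf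
  exact ⟨L, i1, i2, K, h1, h2⟩

/-- An element of exact order `m` in the units of `ZMod p`, when `p ≡ 1 mod m`. -/
theorem exists_unit_orderOf {p m : ℕ} [hp : Fact p.Prime] (h : p ≡ 1 [MOD m]) :
    ∃ ζ : (ZMod p)ˣ, orderOf ζ = m := by
  obtain ⟨g, hg⟩ := IsCyclic.exists_generator (α := (ZMod p)ˣ)
  have h1 : orderOf g = p - 1 := by
    rw [orderOf_eq_card_of_forall_mem_zpowers hg, Nat.card_eq_fintype_card, ZMod.card_units]
  have h2 : m ∣ p - 1 := (Nat.modEq_iff_dvd' hp.out.one_lt.le).mp h.symm
  obtain ⟨c, hc⟩ := h2
  have hc0 : c ≠ 0 := by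
    rintro rfl
    have := hp.out.one_lt
    omega
  refine ⟨g ^ c, ?_⟩
  rw [orderOf_pow_of_dvd hc0 (by rw [h1, hc]; exact dvd_mul_left c m), h1, hc]
  exact Nat.mul_div_cancel _ (Nat.pos_of_ne_zero hc0)

end Cfsg.Agent.Lib.Frobenius
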