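import Mathlib
import Cfsg.Prelude.Def_Solvable

/-!
# Frobenius complements: transport to `Type`
-/

set_option autoImplicit false

namespace Cfsg.Agent.Lib.Frobenius

open Cfsg
open scoped Pointwise

universe u

/-- A Frobenius complement transports along an isomorphism of ambient groups. -/
theorem isFrobeniusComplement_map {L L₀ : Type*} [Group L] [Group L₀] (e : L ≃* L₀) {K : Subgroup L}
    (hK : IsFrobeniusComplement K) : IsFrobeniusComplement (K.map e.toMonoidHom) := by
  obtain ⟨h1, h2, h3⟩ := hK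
  refine ⟨?_, ?_, ?_⟩
  · intro h
    apply h1
    rw [eq_bot_iff]
    intro x hx
    have : e x ∈ K.map e.toMonoidHom := ⟨x, hx, rfl⟩
    rw [h, Subgroup.mem_bot] at this
    rw [Subgroup.mem_bot]
    exact (map_eq_one_iff e e.injective).mp this
  · intro h
    apply h2
    rw [eq_top_iff]
    intro x _
    have : e x ∈ K.map e.toMonoidHom := by rw [h]; trivial
    obtain ⟨y, hy, hyx⟩ := this
    have : y = x := e.injective hyx
    exact this ▸ hy
  · intro g hg
    obtain ⟨g₀, rfl⟩ := e.surjective g
    have hg₀ : g₀ ∉ K := fun h => hg ⟨g₀, h, rfl⟩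
    have h4 := h3 g₀ hg₀
    rw [eq_bot_iff]
    intro x hx
    obtain ⟨hx1, hx2⟩ := Subgroup.mem_inf.mp hx
    obtain ⟨y, hy, rfl⟩ := hx1
    rw [Subgroup.mem_pointwise_smul_iff_inv_smul_mem] at hx2
    obtain ⟨z, hz, hzy⟩ := hx2
    have h5 : y ∈ K ⊓ MulAut.conj g₀ • K := by
      refine Subgroup.mem_inf.mpr ⟨hy, ?_⟩
      rw [Subgroup.mem_pointwise_smul_iff_inv_smul_mem]
      have h6 : z = (MulAut.conj g₀)⁻¹ • y := by
        apply e.injective
        have h7 : e z = (MulAut.conj (e g₀))⁻¹ • (e y) := hzy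
        rw [h7]
        simp [MulAut.smul_def, MulAut.conj_inv_apply]
      rw [← h6]
      exact hz
    rw [h4, Subgroup.mem_bot] at h5
    rw [Subgroup.mem_bot]
    show e y = 1
    rw [h5, map_one]

/-- A Frobenius complement in a group in any universe is isomorphic to one in a group in `Type`. -/
theorem exists_frobenius_type0 {L : Type u} [Group L] [Finite L] {K : Subgroup L}
    (hK : IsFrobeniusComplement K) :
    ∃ (L₀ : Type) (_ : Group L₀) (_ : Finite L₀) (K₀ : Subgroup L₀),
      IsFrobeniusComplement K₀ ∧ Nonempty (K ≃* K₀) := by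
  haveI : Small.{0} L := inferInstance
  let e' : L ≃* Shrink.{0} L := (Shrink.mulEquiv (α := L)).symm
  haveI : Finite (Shrink.{0} L) := Finite.of_equiv L e'.toEquiv
  exact ⟨Shrink.{0} L, inferInstance, inferInstance, K.map e'.toMonoidHom,
    isFrobeniusComplement_map e' hK, ⟨K.equivMapOfInjective e'.toMonoidHom e'.injective⟩⟩

end Cfsg.Agent.Lib.Frobenius
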